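import Mathlib

/-!
Large Fischer type: certificate data in the binary encoding of the six coordinates (two bits per
coordinate: `0` zero, `e + 1` the `e`-th power of the primitive cube root).

`radImgs`: for each of sixteen indices the images of the twelve unit bits under a map fixing a
singular 3-space pointwise. `chainPts`: a basis for the orbit chain. `baseCases`: nine vectors of
weight four with the three indices left after exclusion, and, for the twelve excluded indices, a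
monomial map (images of lines, exponents) with a vector and two preimages showing that two
conjugates do not commute.
-/

set_option autoImplicit false

namespace CfsgLib.LargeFischer.Base

/-- The sixteen maps. -/
def radImgs : List (List Nat) :=
  [[1, 2, 4, 8, 16, 32, 64, 128, 256, 512, 1024, 2048],
   [4, 8, 1, 2, 16, 32, 64, 128, 1024, 2048, 256, 512],
   [1, 2, 4, 8, 64, 128, 16, 32, 1024, 2048, 256, 512],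
   [4, 8, 1, 2, 64, 128, 16, 32, 256, 512, 1024, 2048],
   [1361, 2722, 1364, 2728, 1301, 2602, 1349, 2698, 341, 682, 1109, 2218],
   [1364, 2728, 1361, 2722, 1301, 2602, 1349, 2698, 1109, 2218, 341, 682],
   [1361, 2722, 1364, 2728, 1349, 2698, 1301, 2602, 1109, 2218, 341, 682],
   [1364, 2728, 1361, 2722, 1349, 2698, 1301, 2602, 341, 682, 1109, 2218],
   [2801, 3922, 2804, 3928, 3866, 1327, 3914, 1423, 431, 757, 1199, 2293],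
   [2804, 3928, 2801, 3922, 3866, 1327, 3914, 1423, 1199, 2293, 431, 757],
   [2801, 3922, 2804, 3928, 3914, 1423, 3866, 1327, 1199, 2293, 431, 757],
   [2804, 3928, 2801, 3922, 3914, 1423, 3866, 1327, 431, 757, 1199, 2293],
   [4001, 1522, 4004, 1528, 2591, 3877, 2639, 3973, 506, 607, 1274, 2143],
   [4004, 1528, 4001, 1522, 2591, 3877, 2639, 3973, 1274, 2143, 506, 607],
   [4001, 1522, 4004, 1528, 2639, 3973, 2591, 3877, 1274, 2143, 506, 607],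
   [4004, 1528, 4001, 1522, 2639, 3973, 2591, 3877, 506, 607, 1274, 2143]]

/-- The basis of the chain. -/
def chainPts : List Nat := [5, 772, 3582, 3831, 3702, 52]

/-- The vectors with their certificates. -/
def baseCases : List (Nat × List Nat × List (Nat × List Nat × List Nat × Nat × Nat × Nat)) :=
  [(85, [0, 3, 4, 7],
    [(1, [0, 1, 2, 3, 4, 5], [0, 0, 0, 0, 1, 2], 256, 768, 2048),
     (2, [0, 1, 2, 3, 4, 5], [0, 0, 0, 0, 1, 2], 256, 768, 2048),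
     (5, [0, 1, 2, 3, 4, 5], [0, 0, 0, 0, 1, 2], 1, 1, 2900),
     (6, [0, 1, 2, 3, 4, 5], [0, 0, 0, 0, 1, 2], 1, 1, 2897),
     (8, [0, 2, 1, 3, 5, 4], [0, 0, 0, 0, 0, 0], 1, 1, 2765),
     (9, [0, 1, 2, 3, 4, 5], [0, 0, 0, 0, 1, 2], 1, 1, 3572),
     (10, [0, 1, 2, 3, 4, 5], [0, 0, 0, 0, 1, 2], 1, 1, 3569),
     (11, [0, 2, 1, 3, 5, 4], [0, 0, 0, 0, 0, 0], 1, 1, 2780),
     (12, [0, 2, 1, 3, 5, 4], [0, 0, 0, 0, 0, 0], 1, 1, 3977),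
     (13, [0, 1, 2, 3, 4, 5], [0, 0, 0, 0, 1, 2], 1, 1, 1700),
     (14, [0, 1, 2, 3, 4, 5], [0, 0, 0, 0, 1, 2], 1, 1, 1697),
     (15, [0, 2, 1, 3, 5, 4], [0, 0, 0, 0, 0, 0], 1, 1, 3992)]),
   (90, [0, 3, 8, 11],
    [(1, [0, 1, 2, 3, 4, 5], [0, 0, 0, 0, 1, 2], 256, 768, 2048),
     (2, [0, 1, 2, 3, 4, 5], [0, 0, 0, 0, 1, 2], 256, 768, 2048),
     (4, [0, 2, 1, 3, 5, 4], [0, 2, 1, 0, 0, 0], 1, 1, 1353),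
     (5, [0, 1, 2, 3, 4, 5], [0, 0, 0, 0, 1, 2], 1, 1, 2900),
     (6, [0, 1, 2, 3, 4, 5], [0, 0, 0, 0, 1, 2], 1, 1, 2897),
     (7, [0, 2, 1, 3, 5, 4], [0, 2, 1, 0, 0, 0], 1, 1, 1400),
     (9, [0, 1, 2, 3, 4, 5], [0, 0, 0, 0, 1, 2], 1, 1, 3572),
     (10, [0, 1, 2, 3, 4, 5], [0, 0, 0, 0, 1, 2], 1, 1, 3569),
     (12, [0, 2, 1, 3, 5, 4], [0, 2, 1, 0, 0, 0], 1, 1, 3981),
     (13, [0, 1, 2, 3, 4, 5], [0, 0, 0, 0, 1, 2], 1, 1, 1700),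
     (14, [0, 1, 2, 3, 4, 5], [0, 0, 0, 0, 1, 2], 1, 1, 1697),
     (15, [0, 2, 1, 3, 5, 4], [0, 2, 1, 0, 0, 0], 1, 1, 4028)]),
   (95, [0, 3, 12, 15],
    [(1, [0, 1, 2, 3, 4, 5], [0, 0, 0, 0, 1, 2], 256, 768, 2048),
     (2, [0, 1, 2, 3, 4, 5], [0, 0, 0, 0, 1, 2], 256, 768, 2048),
     (4, [0, 2, 1, 3, 5, 4], [0, 1, 2, 0, 0, 0], 1, 1, 1357),
     (5, [0, 1, 2, 3, 4, 5], [0, 0, 0, 0, 1, 2], 1, 1, 2900),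
     (6, [0, 1, 2, 3, 4, 5], [0, 0, 0, 0, 1, 2], 1, 1, 2897),
     (7, [0, 2, 1, 3, 5, 4], [0, 1, 2, 0, 0, 0], 1, 1, 1388),
     (8, [0, 2, 1, 3, 5, 4], [0, 1, 2, 0, 0, 0], 1, 1, 2761),
     (9, [0, 1, 2, 3, 4, 5], [0, 0, 0, 0, 1, 2], 1, 1, 3572),
     (10, [0, 1, 2, 3, 4, 5], [0, 0, 0, 0, 1, 2], 1, 1, 3569),
     (11, [0, 2, 1, 3, 5, 4], [0, 1, 2, 0, 0, 0], 1, 1, 2792),
     (13, [0, 1, 2, 3, 4, 5], [0, 0, 0, 0, 1, 2], 1, 1, 1700),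
     (14, [0, 1, 2, 3, 4, 5], [0, 0, 0, 0, 1, 2], 1, 1, 1697)]),
   (1285, [0, 1, 4, 5],
    [(2, [0, 1, 2, 3, 4, 5], [0, 0, 1, 2, 0, 0], 16, 48, 128),
     (3, [0, 1, 2, 3, 4, 5], [0, 0, 1, 2, 0, 0], 16, 48, 128),
     (6, [0, 1, 2, 3, 4, 5], [0, 0, 1, 2, 0, 0], 1, 1, 1457),
     (7, [0, 1, 2, 3, 4, 5], [0, 0, 1, 2, 0, 0], 1, 1, 1460),
     (8, [0, 4, 2, 3, 5, 1], [0, 0, 0, 0, 0, 0], 1, 1, 761),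
     (9, [0, 4, 2, 3, 5, 1], [0, 0, 0, 0, 0, 0], 1, 1, 1784),
     (10, [0, 1, 2, 3, 4, 5], [0, 0, 1, 2, 0, 0], 1, 1, 2657),
     (11, [0, 1, 2, 3, 4, 5], [0, 0, 1, 2, 0, 0], 1, 1, 2660),
     (12, [0, 4, 2, 3, 5, 1], [0, 0, 0, 0, 0, 0], 1, 1, 941),
     (13, [0, 4, 2, 3, 5, 1], [0, 0, 0, 0, 0, 0], 1, 1, 1964),
     (14, [0, 1, 2, 3, 4, 5], [0, 0, 1, 2, 0, 0], 1, 1, 4049),
     (15, [0, 1, 2, 3, 4, 5], [0, 0, 1, 2, 0, 0], 1, 1, 4052)]),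
   (1290, [0, 1, 12, 13],
    [(2, [0, 1, 2, 3, 4, 5], [0, 0, 1, 2, 0, 0], 16, 48, 128),
     (3, [0, 1, 2, 3, 4, 5], [0, 0, 1, 2, 0, 0], 16, 48, 128),
     (4, [0, 4, 2, 3, 5, 1], [0, 2, 0, 0, 0, 1], 1, 1, 345),
     (5, [0, 4, 2, 3, 5, 1], [0, 2, 0, 0, 0, 1], 1, 1, 3416),
     (6, [0, 1, 2, 3, 4, 5], [0, 0, 1, 2, 0, 0], 1, 1, 1457),
     (7, [0, 1, 2, 3, 4, 5], [0, 0, 1, 2, 0, 0], 1, 1, 1460),
     (8, [0, 4, 2, 3, 5, 1], [0, 2, 0, 0, 0, 1], 1, 1, 765),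
     (9, [0, 4, 2, 3, 5, 1], [0, 2, 0, 0, 0, 1], 1, 1, 3836),
     (10, [0, 1, 2, 3, 4, 5], [0, 0, 1, 2, 0, 0], 1, 1, 2657),
     (11, [0, 1, 2, 3, 4, 5], [0, 0, 1, 2, 0, 0], 1, 1, 2660),
     (14, [0, 1, 2, 3, 4, 5], [0, 0, 1, 2, 0, 0], 1, 1, 4049),
     (15, [0, 1, 2, 3, 4, 5], [0, 0, 1, 2, 0, 0], 1, 1, 4052)]),
   (1295, [0, 1, 8, 9],
    [(2, [0, 1, 2, 3, 4, 5], [0, 0, 1, 2, 0, 0], 16, 48, 128),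
     (3, [0, 1, 2, 3, 4, 5], [0, 0, 1, 2, 0, 0], 16, 48, 128),
     (4, [0, 4, 2, 3, 5, 1], [0, 1, 0, 0, 0, 2], 1, 1, 349),
     (5, [0, 4, 2, 3, 5, 1], [0, 1, 0, 0, 0, 2], 1, 1, 2396),
     (6, [0, 1, 2, 3, 4, 5], [0, 0, 1, 2, 0, 0], 1, 1, 1457),
     (7, [0, 1, 2, 3, 4, 5], [0, 0, 1, 2, 0, 0], 1, 1, 1460),
     (10, [0, 1, 2, 3, 4, 5], [0, 0, 1, 2, 0, 0], 1, 1, 2657),
     (11, [0, 1, 2, 3, 4, 5], [0, 0, 1, 2, 0, 0], 1, 1, 2660),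
     (12, [0, 4, 2, 3, 5, 1], [0, 1, 0, 0, 0, 2], 1, 1, 937),
     (13, [0, 4, 2, 3, 5, 1], [0, 1, 0, 0, 0, 2], 1, 1, 2984),
     (14, [0, 1, 2, 3, 4, 5], [0, 0, 1, 2, 0, 0], 1, 1, 4049),
     (15, [0, 1, 2, 3, 4, 5], [0, 0, 1, 2, 0, 0], 1, 1, 4052)]),
   (1360, [0, 2, 4, 6],
    [(1, [0, 1, 2, 3, 4, 5], [1, 2, 0, 0, 0, 0], 1, 3, 8),
     (3, [0, 1, 2, 3, 4, 5], [1, 2, 0, 0, 0, 0], 1, 3, 8),
     (5, [0, 1, 2, 3, 4, 5], [1, 2, 0, 0, 0, 0], 1, 3, 1368),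
     (7, [0, 1, 2, 3, 4, 5], [1, 2, 0, 0, 0, 0], 1, 3, 1368),
     (8, [0, 1, 2, 4, 5, 3], [0, 0, 0, 0, 0, 0], 1, 1, 3761),
     (9, [0, 1, 2, 3, 4, 5], [1, 2, 0, 0, 0, 0], 1, 3, 2808),
     (10, [0, 1, 2, 4, 5, 3], [0, 0, 0, 0, 0, 0], 1, 1, 3761),
     (11, [0, 1, 2, 3, 4, 5], [1, 2, 0, 0, 0, 0], 1, 3, 2808),
     (12, [0, 1, 2, 4, 5, 3], [0, 0, 0, 0, 0, 0], 1, 1, 3041),
     (13, [0, 1, 2, 3, 4, 5], [1, 2, 0, 0, 0, 0], 1, 3, 4008),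
     (14, [0, 1, 2, 4, 5, 3], [0, 0, 0, 0, 0, 0], 1, 1, 3041),
     (15, [0, 1, 2, 3, 4, 5], [1, 2, 0, 0, 0, 0], 1, 3, 4008)]),
   (1440, [0, 2, 8, 10],
    [(1, [0, 1, 2, 3, 4, 5], [1, 2, 0, 0, 0, 0], 1, 3, 8),
     (3, [0, 1, 2, 3, 4, 5], [1, 2, 0, 0, 0, 0], 1, 3, 8),
     (4, [0, 1, 2, 4, 5, 3], [0, 0, 0, 2, 0, 1], 1, 1, 3473),
     (5, [0, 1, 2, 3, 4, 5], [1, 2, 0, 0, 0, 0], 1, 3, 1368),
     (6, [0, 1, 2, 4, 5, 3], [0, 0, 0, 2, 0, 1], 1, 1, 3473),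
     (7, [0, 1, 2, 3, 4, 5], [1, 2, 0, 0, 0, 0], 1, 3, 1368),
     (9, [0, 1, 2, 3, 4, 5], [1, 2, 0, 0, 0, 0], 1, 3, 2808),
     (11, [0, 1, 2, 3, 4, 5], [1, 2, 0, 0, 0, 0], 1, 3, 2808),
     (12, [0, 1, 2, 4, 5, 3], [0, 0, 0, 2, 0, 1], 1, 1, 1889),
     (13, [0, 1, 2, 3, 4, 5], [1, 2, 0, 0, 0, 0], 1, 3, 4008),
     (14, [0, 1, 2, 4, 5, 3], [0, 0, 0, 2, 0, 1], 1, 1, 1889),
     (15, [0, 1, 2, 3, 4, 5], [1, 2, 0, 0, 0, 0], 1, 3, 4008)]),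
   (1520, [0, 2, 12, 14],
    [(1, [0, 1, 2, 3, 4, 5], [1, 2, 0, 0, 0, 0], 1, 3, 8),
     (3, [0, 1, 2, 3, 4, 5], [1, 2, 0, 0, 0, 0], 1, 3, 8),
     (4, [0, 1, 2, 4, 5, 3], [0, 0, 0, 1, 0, 2], 1, 1, 2513),
     (5, [0, 1, 2, 3, 4, 5], [1, 2, 0, 0, 0, 0], 1, 3, 1368),
     (6, [0, 1, 2, 4, 5, 3], [0, 0, 0, 1, 0, 2], 1, 1, 2513),
     (7, [0, 1, 2, 3, 4, 5], [1, 2, 0, 0, 0, 0], 1, 3, 1368),
     (8, [0, 1, 2, 4, 5, 3], [0, 0, 0, 1, 0, 2], 1, 1, 1649),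
     (9, [0, 1, 2, 3, 4, 5], [1, 2, 0, 0, 0, 0], 1, 3, 2808),
     (10, [0, 1, 2, 4, 5, 3], [0, 0, 0, 1, 0, 2], 1, 1, 1649),
     (11, [0, 1, 2, 3, 4, 5], [1, 2, 0, 0, 0, 0], 1, 3, 2808),
     (13, [0, 1, 2, 3, 4, 5], [1, 2, 0, 0, 0, 0], 1, 3, 4008),
     (15, [0, 1, 2, 3, 4, 5], [1, 2, 0, 0, 0, 0], 1, 3, 4008)])]

end CfsgLib.LargeFischer.Base
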