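import Cfsg.Agent.Lib.LargeFischer.Base.Abelian

/-!
Large Fischer type: certificates for the uniqueness of the largest elementary abelian subgroup:
linear involutions of the 3-space preserving the shorter class, and the sixteen maps against them.
-/

set_option autoImplicit false

namespace CfsgLib.LargeFischer.Base

/-- The images of `1 + r` for the sixteen maps `r`. -/
def imTab : List (List Nat) := [[0],
   [0, 5, 10, 15, 1280, 1285, 1290, 1295, 2560, 2565, 2570, 2575, 3840, 3845, 3850, 3855],
   [0, 80, 160, 240, 1280, 1360, 1440, 1520, 2560, 2640, 2720, 2800, 3840, 3920, 4000, 4080],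
   [0, 5, 10, 15, 80, 85, 90, 95, 160, 165, 170, 175, 240, 245, 250, 255],
   [0, 85, 170, 255, 1285, 1360, 1455, 1530, 2570, 2655, 2720, 2805, 3855, 3930, 4005, 4080],
   [0, 80, 160, 240, 1285, 1365, 1445, 1525, 2570, 2650, 2730, 2810, 3855, 3935, 4015, 4095],
   [0, 5, 10, 15, 1360, 1365, 1370, 1375, 2720, 2725, 2730, 2735, 4080, 4085, 4090, 4095],
   [0, 85, 170, 255, 1280, 1365, 1450, 1535, 2560, 2645, 2730, 2815, 3840, 3925, 4010, 4095],
   [0, 90, 175, 245, 1295, 1365, 1440, 1530, 2565, 2655, 2730, 2800, 3850, 3920, 4005, 4095],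
   [0, 80, 160, 240, 1295, 1375, 1455, 1535, 2565, 2645, 2725, 2805, 3850, 3930, 4010, 4090],
   [0, 5, 10, 15, 1440, 1445, 1450, 1455, 2800, 2805, 2810, 2815, 3920, 3925, 3930, 3935],
   [0, 90, 175, 245, 1280, 1370, 1455, 1525, 2560, 2650, 2735, 2805, 3840, 3930, 4015, 4085],
   [0, 95, 165, 250, 1290, 1365, 1455, 1520, 2575, 2640, 2730, 2805, 3845, 3930, 4000, 4095],
   [0, 80, 160, 240, 1290, 1370, 1450, 1530, 2575, 2655, 2735, 2815, 3845, 3925, 4005, 4085],
   [0, 5, 10, 15, 1520, 1525, 1530, 1535, 2640, 2645, 2650, 2655, 4000, 4005, 4010, 4015],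
   [0, 95, 165, 250, 1280, 1375, 1445, 1530, 2560, 2655, 2725, 2810, 3840, 3935, 4005, 4090]]

/-- The multiple by the field element with the given code. -/
def mulN (k a : Nat) : Nat :=
  if k = 0 then 0 else if k = 1 then a else if k = 2 then scalN a else scalN (scalN a)

/-- The linear map of the 3-space with given images of the basis. -/
def phiN (t : Nat × Nat × Nat) (n : Nat) : Nat :=
  mulN (dig n 0) t.1 ^^^ mulN (dig n 2) t.2.1 ^^^ mulN (dig n 4) t.2.2

/-- The identity of the 3-space. -/
def idT : Nat × Nat × Nat := (5, 80, 1280)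

/-- The short vectors of the 3-space. -/
def shortW : List Nat := wList.filter shortN

/-- An involution preserving the shorter class, by its images of the basis. -/
def goodT (t : Nat × Nat × Nat) : Bool :=
  phiN t t.1 == 5 && phiN t t.2.1 == 80 && phiN t t.2.2 == 1280 &&
    shortW.all fun n => shortN (phiN t n)

/-- The forty-five involutions and the identity. -/
def invTab : List (Nat × Nat × Nat) :=
  [(5, 80, 1280), (5, 80, 1365), (5, 80, 1455), (5, 80, 1530), (5, 1280, 80),
   (5, 1365, 1280), (5, 1455, 2730), (5, 1530, 4095), (5, 2560, 240), (5, 2655, 1280),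
   (5, 2730, 2655), (5, 2805, 4005), (5, 3840, 160), (5, 3930, 1280), (5, 4005, 2805),
   (5, 4095, 3930), (80, 5, 1280), (80, 5, 1365), (160, 15, 1280), (160, 15, 1530),
   (240, 10, 1280), (240, 10, 1455), (1280, 80, 5), (1280, 1365, 5), (1365, 80, 1280),
   (1365, 1280, 80), (1455, 80, 4095), (1455, 1530, 1280), (1530, 80, 2730), (1530, 1455, 1280),
   (2560, 80, 15), (2560, 3930, 15), (2655, 80, 3930), (2655, 4095, 1280), (2730, 80, 2805),
   (2730, 4005, 1280), (2805, 80, 1280), (2805, 3840, 160), (3840, 80, 10), (3840, 2655, 10),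
   (3930, 80, 2655), (3930, 2730, 1280), (4005, 80, 1280), (4005, 2560, 240), (4095, 80, 4005),
   (4095, 2805, 1280)]

/-- Composition. -/
def compT (t u : Nat × Nat × Nat) : Nat × Nat × Nat :=
  (phiN t u.1, phiN t u.2.1, phiN t u.2.2)

/-- The difference with the image under the `p`-th map. -/
def diffN (p : Fin 16) (n : Nat) : Nat := n ^^^ appN (rImg p) n

/-- The row of the table. -/
def imP (p : Fin 16) : List Nat := imTab.getD p.val []

/-- Preservation of a row. -/
def keepT (t : Nat × Nat × Nat) (p : Fin 16) : Bool :=
  (imP p).all fun w => (imP p).contains (phiN t w)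

/-- The fixed codes of the `p`-th map. -/
def fixL (p : Fin 16) : List Nat :=
  (List.range 4096).filter fun n => appN (rImg p) n == n

theorem invTab_cover : (shortW.all fun a => shortW.all fun b => shortW.all fun c =>
    !goodT (a, b, c) || invTab.contains (a, b, c)) = true := by decide +kernel

theorem invTab_comm : (invTab.all fun t => t == idT || invTab.all fun u =>
    u == idT || u == t || compT t u != compT u t ||
      (invTab.countP fun w => compT t w == compT w t && compT u w == compT w u) ≤ 4) = true := by
  decide +kernel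

theorem invTab_fix : (invTab.all fun t => t == idT ||
    (wList.countP fun n => phiN t n == n) ≤ 16) = true := by decide +kernel

theorem fixL_card : ∀ p : Fin 16, p = 0 ∨ (fixL p).length ≤ 256 := by decide +kernel

theorem fixL_common : ∀ p : Fin 16, p = 0 ∨ ((fixL p).all fun n => wList.contains n ||
    (List.finRange 16).all fun q => q == 0 || q == p || appN (rImg q) n != n) = true := by
  decide +kernel

theorem idT_fix : (wList.all fun n => phiN idT n == n && dig n 0 < 4) = true := by decide +kernel

theorem imP_mem : ∀ p : Fin 16, ((List.range 4096).all fun n => n &&& 819 != n ||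
    (imP p).contains (diffN p n)) = true := by decide +kernel

theorem imP_pre : ∀ p : Fin 16, ((imP p).all fun w => wList.contains w &&
    ((List.range 4096).filter fun n => n &&& 819 == n).any fun n => diffN p n == w) = true := by
  decide +kernel

theorem diffN_proj : ∀ p : Fin 16, (bitsN.all fun n => diffN p (projN n) == diffN p n) = true := by
  decide +kernel

theorem keep_count : (invTab.all fun t => t == idT ||
    ((List.finRange 16).countP fun p => keepT t p) ≤ 4) = true := by decide +kernel

end CfsgLib.LargeFischer.Base
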